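import Mathlib.RingTheory.MvPolynomial.Homogeneous
import Mathlib.RingTheory.MvPolynomial.Ideal
import Mathlib.Algebra.MvPolynomial.Funext
import Mathlib.RingTheory.AdjoinRoot
import Mathlib.LinearAlgebra.FreeModule.PID
import Mathlib.RingTheory.Ideal.Maps
import Mathlib.Algebra.Module.Projective
import Mathlib.LinearAlgebra.Dimension.StrongRankCondition
import Mathlib.LinearAlgebra.Dimension.Finite
import Mathlib.FieldTheory.IsAlgClosed.AlgebraicClosure
import Mathlib.LinearAlgebra.Dual.Lemmas
import Mathlib.Tactic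

/-! The homogeneous ideal of finitely many points of the plane needs at most `d + 1` generators. -/

universe u

namespace Groth.Agent.CAlgPts
open MvPolynomial

variable {k : Type u} [Field k]

local notation "S₃" => MvPolynomial (Fin 3)

/-- evaluation along the line through `p` -/
noncomputable def lineEval {R : Type u} [CommRing R] (p : Fin 3 → R) : S₃ R →ₐ[R] Polynomial R :=
  aeval fun i => Polynomial.C (p i) * Polynomial.X

lemma coeff_lineEval {R : Type u} [CommRing R] (p : Fin 3 → R) (h : S₃ R) (j : ℕ) :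
    (lineEval p h).coeff j = eval p (homogeneousComponent j h) := by
  classical
  induction h using MvPolynomial.induction_on' with
  | monomial m c =>
    have e : lineEval p (monomial m c) = Polynomial.monomial m.degree (eval p (monomial m c)) := by
      rw [lineEval, aeval_monomial, eval_monomial, Finsupp.degree_eq_sum, ← Polynomial.C_mul_X_pow_eq_monomial,
        Finsupp.prod_fintype _ _ (fun i => pow_zero _), Finsupp.prod_fintype _ _ (fun i => pow_zero _)]
      simp only [Fin.prod_univ_three, Fin.sum_univ_three, mul_pow, map_mul, map_pow, pow_add, Polynomial.algebraMap_eq]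
      ring
    rw [e, Polynomial.coeff_monomial,
      homogeneousComponent_of_mem ((mem_homogeneousSubmodule m.degree _).2 (isHomogeneous_monomial c rfl))]
    by_cases h : m.degree = j
    · subst h; simp
    · rw [if_neg h, if_neg (Ne.symm h), map_zero]
  | add a b ha hb => rw [map_add, Polynomial.coeff_add, ha, hb, map_add, map_add]

/-- the homogeneous ideal of a set of points -/
noncomputable def van {R : Type u} [CommRing R] (Z : Set (Fin 3 → R)) : Ideal (S₃ R) :=
  ⨅ p ∈ Z, RingHom.ker (lineEval p)

lemma mem_van {R : Type u} [CommRing R] {Z : Set (Fin 3 → R)} {h : S₃ R} :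
    h ∈ van Z ↔ ∀ p ∈ Z, lineEval p h = 0 := by simp [van]

lemma sub_C_mem {K : Type u} [Field K] (s : S₃ K) : s - C (constantCoeff s) ∈ idealOfVars (Fin 3) K := by
  have : idealOfVars (Fin 3) K = Ideal.span (MvPolynomial.X '' (Set.univ : Set (Fin 3))) := by rw [Set.image_univ]
  rw [this, mem_ideal_span_X_image]
  intro m hm
  by_contra hne
  push Not at hne
  obtain rfl : m = 0 := Finsupp.ext fun i => hne i trivial
  simp [mem_support_iff, constantCoeff_eq] at hm

section coords

variable {K : Type u} [Field K]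

/-- generators modulo `X₂` -/
lemma exists_generators_mod (Z : Set (Fin 3 → K)) (hZ : ∀ p ∈ Z, p 2 ≠ 0) {d : ℕ} {f : S₃ K}
    (hf : f ∈ van Z) (hhom : f.IsHomogeneous d) (hf0 : eval ![1, 0, 0] f ≠ 0) :
    ∃ G : Finset (S₃ K), G.card ≤ d + 1 ∧ ↑G ⊆ (van Z : Set (S₃ K)) ∧
      van Z ≤ Ideal.span (G : Set (S₃ K)) ⊔ Ideal.span {X 2} * van Z := by
  classical
  let π : S₃ K →ₐ[K] Polynomial (Polynomial K) := aeval ![Polynomial.X, Polynomial.C Polynomial.X, 0]
  let ι : Polynomial (Polynomial K) →+* S₃ K :=
    Polynomial.eval₂RingHom (Polynomial.aeval (X 1 : S₃ K)).toRingHom (X 0)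
  have hπι : ∀ q, π (ι q) = q := by
    have : (π.toRingHom.comp ι) = RingHom.id _ := by
      apply Polynomial.ringHom_ext'
      · apply Polynomial.ringHom_ext <;> simp [π, ι]
      · simp [π, ι]
    exact fun q => RingHom.congr_fun this q
  have hker : ∀ h, π h = 0 → h ∈ Ideal.span ({X 2} : Set (S₃ K)) := by
    intro h hh
    have e : (Ideal.Quotient.mk (Ideal.span ({X 2} : Set (S₃ K)))).comp (ι.comp π.toRingHom) = Ideal.Quotient.mk _ := by
      apply MvPolynomial.ringHom_ext
      · intro r; simp [π, ι]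
      · intro i
        fin_cases i
        · simp [π, ι]
        · simp [π, ι]
        · simp [π, ι, eq_comm (a := (0 : S₃ K ⧸ _)), Ideal.Quotient.eq_zero_iff_mem, Ideal.mem_span_singleton]
    have := RingHom.congr_fun e h
    simp only [RingHom.comp_apply, AlgHom.toRingHom_eq_coe, RingHom.coe_coe, hh, map_zero] at this
    exact Ideal.Quotient.eq_zero_iff_mem.1 this.symm
  set c := eval ![1, 0, 0] f with hc
  have hdeg : ∀ h : S₃ K, h.IsHomogeneous d →
      (π h).natDegree ≤ d ∧ (π h).coeff d = Polynomial.C (eval ![1, 0, 0] h) := by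
    intro h hh
    have key : ∀ m : Fin 3 →₀ ℕ, m.degree = d → ∀ a : K, (π (monomial m a)).natDegree ≤ d ∧
        (π (monomial m a)).coeff d = Polynomial.C (eval ![1, 0, 0] (monomial m a)) := by
      intro m hm a
      rw [Finsupp.degree_eq_sum, Fin.sum_univ_three] at hm
      have e : π (monomial m a) = Polynomial.monomial (m 0) (Polynomial.C a * Polynomial.X ^ (m 1) * 0 ^ (m 2)) := by
        rw [← Polynomial.C_mul_X_pow_eq_monomial]
        simp only [π, aeval_monomial, Finsupp.prod_fintype _ _ (fun i => pow_zero _), Fin.prod_univ_three,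
          Matrix.cons_val, map_mul, map_pow, map_zero]
        rw [show algebraMap K (Polynomial (Polynomial K)) a = Polynomial.C (Polynomial.C a) from rfl]
        ring
      refine ⟨e ▸ (Polynomial.natDegree_monomial_le _).trans (by omega), ?_⟩
      rw [e, Polynomial.coeff_monomial, eval_monomial, Finsupp.prod_fintype _ _ (fun i => pow_zero _)]
      simp only [Fin.prod_univ_three, Matrix.cons_val, one_pow, one_mul]
      by_cases h0 : m 0 = d
      · rw [if_pos h0, show m 1 = 0 by omega, show m 2 = 0 by omega]; simp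
      · rw [if_neg h0]
        rcases Nat.eq_zero_or_pos (m 1) with h1 | h1
        · rw [zero_pow (show m 2 ≠ 0 by omega)]; simp
        · rw [zero_pow h1.ne']; simp
    rw [h.as_sum, map_sum, map_sum, map_sum, Polynomial.finsetSum_coeff]
    have hm : ∀ m ∈ h.support, m.degree = d := fun m hm => by
      have := hh (mem_support_iff.1 hm)
      rw [← this, Finsupp.degree_eq_weight_one]
      rfl
    exact ⟨Polynomial.natDegree_sum_le_of_forall_le _ _ fun m hm' => (key m (hm m hm') _).1,
      Finset.sum_congr rfl fun m hm' => (key m (hm m hm') _).2⟩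
  obtain ⟨hg1, hg2⟩ := hdeg f hhom
  -- the monic multiple
  let g : Polynomial (Polynomial K) := Polynomial.C (Polynomial.C c⁻¹) * π f
  have hgc : g.coeff d = 1 := by
    rw [Polynomial.coeff_C_mul, hg2, ← map_mul, inv_mul_cancel₀ hf0, map_one]
  have hgd : g.natDegree ≤ d := (Polynomial.natDegree_C_mul_le _ _).trans hg1
  have hgm : g.Monic := Polynomial.monic_of_natDegree_le_of_coeff_eq_one d hgd hgc
  let b := (AdjoinRoot.powerBasis' hgm).basis
  haveI : Module.Free (Polynomial K) (AdjoinRoot g) := .of_basis b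
  haveI : Module.Finite (Polynomial K) (AdjoinRoot g) := .of_basis b
  have hrank : Module.finrank (Polynomial K) (AdjoinRoot g) ≤ d := by
    rw [Module.finrank_eq_card_basis b, Fintype.card_fin]
    exact hgd
  let mk : S₃ K →+* AdjoinRoot g := (AdjoinRoot.mk g).comp π.toRingHom
  have hmks : Function.Surjective mk := AdjoinRoot.mk_surjective.comp fun q => ⟨ι q, hπι q⟩
  let N : Submodule (Polynomial K) (AdjoinRoot g) := ((van Z).map mk).restrictScalars (Polynomial K)
  haveI : Module.Finite (Polynomial K) N := Module.Finite.iff_fg.2 (IsNoetherian.noetherian N)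
  haveI : Module.Free (Polynomial K) N := Module.Free.of_basis (Submodule.basisOfPid b N).2
  let bN := Module.finBasis (Polynomial K) N
  have hmem : ∀ i, ∃ h ∈ van Z, mk h = (bN i : AdjoinRoot g) := fun i =>
    (Ideal.mem_map_iff_of_surjective mk hmks).1 (bN i).2
  choose hh hhZ hhm using hmem
  refine ⟨insert f (Finset.univ.image hh), ?_, ?_, ?_⟩
  · refine (Finset.card_insert_le _ _).trans (Nat.succ_le_succ ((Finset.card_image_le).trans ?_))
    rw [Finset.card_univ, Fintype.card_fin]
    exact (Submodule.finrank_le N).trans hrank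
  · rw [Finset.coe_insert, Finset.coe_image, Finset.coe_univ, Set.image_univ]
    exact Set.insert_subset hf (Set.range_subset_iff.2 hhZ)
  intro h hh'
  have hN : mk h ∈ N := Ideal.mem_map_of_mem mk hh'
  have hrep := congrArg (N.subtype) (bN.sum_repr ⟨mk h, hN⟩)
  simp only [map_sum, map_smul, Submodule.subtype_apply] at hrep
  let s : S₃ K := ∑ i, ι (Polynomial.C (bN.repr ⟨mk h, hN⟩ i)) * hh i
  have hzero : AdjoinRoot.mk g (π (h - s)) = 0 := by
    change mk (h - s) = 0
    rw [map_sub, sub_eq_zero, map_sum]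
    conv_lhs => rw [← hrep]
    refine Finset.sum_congr rfl fun i _ => ?_
    rw [map_mul, hhm, Algebra.smul_def]
    congr 1
    change _ = AdjoinRoot.mk g (π (ι _))
    rw [hπι]
    rfl
  obtain ⟨w, hw⟩ := AdjoinRoot.mk_eq_zero.1 hzero
  let w' : S₃ K := ι (Polynomial.C (Polynomial.C c⁻¹) * w) * f
  have hq := hker (h - s - w') (by
    rw [map_sub, hw, map_mul π, hπι]; ring)
  obtain ⟨q, hq'⟩ := Ideal.mem_span_singleton'.1 hq
  have hspan : s + w' ∈ Ideal.span ((insert f (Finset.univ.image hh) : Finset (S₃ K)) : Set (S₃ K)) := by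
    refine add_mem (Ideal.sum_mem _ fun i _ => Ideal.mul_mem_left _ _ (Ideal.subset_span (by simp))) ?_
    exact Ideal.mul_mem_left _ _ (Ideal.subset_span (by simp))
  have hqZ : q ∈ van Z := by
    rw [mem_van]
    intro p hp
    have h1 : lineEval p (h - s - w') = 0 := mem_van.1 (sub_mem (sub_mem hh'
      (Ideal.sum_mem _ fun i _ => Ideal.mul_mem_left _ _ (hhZ i))) (Ideal.mul_mem_left _ _ hf)) p hp
    rw [← hq', map_mul] at h1
    refine (mul_eq_zero.1 h1).resolve_right ?_
    simp [lineEval, hZ p hp]
  rw [show h = (s + w') + X 2 * q by rw [mul_comm, hq']; ring]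
  exact Submodule.add_mem_sup hspan (Ideal.mul_mem_mul (Ideal.mem_span_singleton_self _) hqZ)

/-- elements independent modulo `m · I` are at most `d + 1` -/
theorem card_le_of_indep (Z : Set (Fin 3 → K)) (hZ : ∀ p ∈ Z, p 2 ≠ 0) {d : ℕ} {f : S₃ K}
    (hf : f ∈ van Z) (hhom : f.IsHomogeneous d) (hf0 : eval ![1, 0, 0] f ≠ 0) {N : ℕ} (h : Fin N → S₃ K)
    (hh : ∀ j, h j ∈ van Z)
    (hind : ∀ c : Fin N → K, ∑ j, c j • h j ∈ idealOfVars (Fin 3) K * van Z → c = 0) : N ≤ d + 1 := by
  classical
  obtain ⟨G, hG, hGZ, hle⟩ := exists_generators_mod Z hZ hf hhom hf0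
  let P : Submodule K (S₃ K) := (idealOfVars (Fin 3) K * van Z).restrictScalars K
  have hspan : ∀ z ∈ van Z, P.mkQ z ∈ Submodule.span K (P.mkQ '' (G : Set (S₃ K))) := by
    intro z hz
    obtain ⟨a, ha, b, hb, rfl⟩ := Submodule.mem_sup.1 (hle hz)
    have hb' : P.mkQ b = 0 := by
      rw [Submodule.mkQ_apply, Submodule.Quotient.mk_eq_zero]
      exact Ideal.mul_mono_left (Ideal.span_le.2 (by rintro _ rfl; exact Ideal.subset_span ⟨2, rfl⟩)) hb
    rw [map_add, hb', add_zero]
    obtain ⟨l, -, rfl⟩ := Submodule.mem_span_finset.1 ha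
    rw [map_sum]
    refine Submodule.sum_mem _ fun g hg => ?_
    have e : P.mkQ (l g • g) = constantCoeff (l g) • P.mkQ g := by
      rw [← map_smul, ← sub_eq_zero, ← map_sub, Submodule.mkQ_apply, Submodule.Quotient.mk_eq_zero]
      change l g • g - constantCoeff (l g) • g ∈ idealOfVars (Fin 3) K * van Z
      rw [smul_eq_mul, smul_eq_C_mul, ← sub_mul]
      exact Ideal.mul_mem_mul (sub_C_mem _) (hGZ hg)
    rw [e]
    exact Submodule.smul_mem _ _ (Submodule.subset_span ⟨g, hg, rfl⟩)
  let W := Submodule.span K (P.mkQ '' (G : Set (S₃ K)))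
  haveI : Module.Finite K W := Module.Finite.span_of_finite K (G.finite_toSet.image _)
  have hli : LinearIndependent K (fun j => (⟨P.mkQ (h j), hspan _ (hh j)⟩ : W)) := by
    rw [Fintype.linearIndependent_iff]
    intro c hc
    have h0 : P.mkQ (∑ j, c j • h j) = 0 := by
      rw [map_sum]
      simpa [map_sum, map_smul] using congrArg W.subtype hc
    have h1 : ∑ j, c j • h j ∈ idealOfVars (Fin 3) K * van Z := (Submodule.Quotient.mk_eq_zero P).1 h0
    exact fun j => congrFun (hind c h1) j
  have := hli.fintype_card_le_finrank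
  rw [Fintype.card_fin] at this
  have hW : Module.finrank K W ≤ d + 1 := by
    refine (finrank_span_le_card (R := K) (P.mkQ '' (G : Set (S₃ K)))).trans ?_
    rw [Set.toFinset_image, Finset.toFinset_coe]
    exact Finset.card_image_le.trans hG
  exact this.trans hW

/-- a linear change of variables -/
noncomputable def subT (T : (Fin 3 → K) →ₗ[K] (Fin 3 → K)) : S₃ K →ₐ[K] S₃ K :=
  aeval fun i => ∑ j, C (LinearMap.toMatrix' T i j) * X j

lemma lineEval_subT (T : (Fin 3 → K) →ₗ[K] (Fin 3 → K)) (p : Fin 3 → K) :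
    (lineEval p).comp (subT T) = lineEval (T p) := by
  refine MvPolynomial.algHom_ext fun i => ?_
  have hT : T p i = ∑ j, LinearMap.toMatrix' T i j * p j := by
    rw [← LinearMap.toMatrix'_mulVec]; rfl
  simp [lineEval, subT, hT, Finset.sum_mul, mul_assoc]

lemma eval_subT (T : (Fin 3 → K) →ₗ[K] (Fin 3 → K)) (p : Fin 3 → K) (h : S₃ K) :
    eval p (subT T h) = eval (T p) h := by
  have e : (aeval p : S₃ K →ₐ[K] K).comp (subT T) = aeval (T p) := by
    refine MvPolynomial.algHom_ext fun i => ?_
    have hT : T p i = ∑ j, LinearMap.toMatrix' T i j * p j := by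
      rw [← LinearMap.toMatrix'_mulVec]; rfl
    simp [subT, hT]
  simpa [← aeval_eq_eval] using AlgHom.congr_fun e h

lemma subT_subT (T T' : (Fin 3 → K) →ₗ[K] (Fin 3 → K)) [Infinite K] (hT : ∀ x, T (T' x) = x) (h : S₃ K) :
    subT T' (subT T h) = h :=
  MvPolynomial.funext fun p => by rw [eval_subT, eval_subT, hT]

lemma subT_homogeneous (T : (Fin 3 → K) →ₗ[K] (Fin 3 → K)) {d : ℕ} {h : S₃ K} (hh : h.IsHomogeneous d) :
    (subT T h).IsHomogeneous d := by
  have := hh.aeval (fun i => ∑ j, C (LinearMap.toMatrix' T i j) * X j) (n := 1) fun i =>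
    IsHomogeneous.sum _ _ _ fun j _ => (isHomogeneous_X K j).C_mul _
  rwa [one_mul] at this

lemma subT_mem_idealOfVars (T : (Fin 3 → K) →ₗ[K] (Fin 3 → K)) :
    (idealOfVars (Fin 3) K).map (subT T).toRingHom ≤ idealOfVars (Fin 3) K := by
  rw [idealOfVars, Ideal.map_span, Ideal.span_le]
  rintro _ ⟨_, ⟨i, rfl⟩, rfl⟩
  change subT T (X i) ∈ _
  rw [subT, aeval_X]
  exact Ideal.sum_mem _ fun j _ => Ideal.mul_mem_left _ _ (Ideal.subset_span ⟨j, rfl⟩)

/-- the bound in general coordinates over an infinite field -/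
theorem card_le_infinite [Infinite K] (Z : Finset (Fin 3 → K)) (hZ : ∀ p ∈ Z, p ≠ 0) {d : ℕ} {f : S₃ K}
    (hf : f ∈ van (Z : Set (Fin 3 → K))) (hhom : f.IsHomogeneous d) (hf0 : f ≠ 0) {N : ℕ} (h : Fin N → S₃ K)
    (hh : ∀ j, h j ∈ van (Z : Set (Fin 3 → K)))
    (hind : ∀ c : Fin N → K, ∑ j, c j • h j ∈ idealOfVars (Fin 3) K * van (Z : Set (Fin 3 → K)) → c = 0) :
    N ≤ d + 1 := by
  classical
  obtain ⟨u, hu⟩ : ∃ u, eval u f ≠ 0 := by
    by_contra hne
    push Not at hne
    exact hf0 (MvPolynomial.funext fun x => by rw [hne x, map_zero])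
  obtain ⟨u, hu0, hu⟩ : ∃ u, u ≠ (0 : Fin 3 → K) ∧ eval u f ≠ 0 := by
    by_cases hu0 : u = 0
    · subst hu0
      have hd : d = 0 := by
        by_contra hd
        exact hu (by rw [eval_zero, constantCoeff_eq]; exact hhom.coeff_eq_zero (by simpa using Ne.symm hd))
      subst hd
      refine ⟨![1, 0, 0], fun h => by simpa using congrFun h 0, ?_⟩
      rw [totalDegree_eq_zero_iff_eq_C.1 ((totalDegree_zero_iff_isHomogeneous (Fin 3)).2 hhom), eval_C]
      rw [totalDegree_eq_zero_iff_eq_C.1 ((totalDegree_zero_iff_isHomogeneous (Fin 3)).2 hhom), eval_C] at hu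
      exact hu
    · exact ⟨u, hu0, hu⟩
  -- a basis starting with `u`
  obtain ⟨T₀, hT₀⟩ : ∃ T₀ : (Fin 3 → K) ≃ₗ[K] (Fin 3 → K), T₀ ![1, 0, 0] = u := by
    obtain ⟨i, hi⟩ := Function.ne_iff.1 hu0
    simp only [Pi.zero_apply] at hi
    let L : (Fin 3 → K) →ₗ[K] (Fin 3 → K) :=
      { toFun := fun x r => x 0 * u r + if r = i then 0 else x (Equiv.swap 0 i r)
        map_add' := fun x y => by funext r; simp only [Pi.add_apply]; split_ifs <;> ring
        map_smul' := fun s x => by funext r; simp only [Pi.smul_apply, smul_eq_mul, RingHom.id_apply]; split_ifs <;> ring }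
    have hL : Function.Injective L := (injective_iff_map_eq_zero L).2 fun x hx => by
      have e : ∀ r, x 0 * u r + (if r = i then 0 else x (Equiv.swap 0 i r)) = 0 := fun r => congrFun hx r
      have h0 : x 0 = 0 := by
        have := e i
        rw [if_pos rfl, add_zero] at this
        exact (mul_eq_zero.1 this).resolve_right hi
      funext r
      by_cases hr : r = 0
      · rw [hr]; exact h0
      have := e (Equiv.swap 0 i r)
      rwa [h0, zero_mul, zero_add, if_neg (fun h => hr ((Equiv.swap 0 i).injective (h.trans (Equiv.swap_apply_left 0 i).symm))),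
        Equiv.swap_apply_self] at this
    refine ⟨LinearEquiv.ofInjectiveEndo L hL, ?_⟩
    funext r
    change (![1, 0, 0] : Fin 3 → K) 0 * u r + (if r = i then 0 else (![1, 0, 0] : Fin 3 → K) (Equiv.swap 0 i r)) = u r
    split_ifs with hr
    · simp
    · have : Equiv.swap 0 i r ≠ 0 := fun h => hr (by
        rw [← Equiv.swap_apply_self 0 i r, h, Equiv.swap_apply_left])
      generalize hq : Equiv.swap 0 i r = q at this ⊢
      fin_cases q <;> simp at this ⊢
  -- shear so that no point has vanishing last coordinate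
  obtain ⟨t, ht⟩ : ∃ t : K, ∀ p ∈ Z, (T₀.symm p) 2 + t * (T₀.symm p) 1 ≠ 0 := by
    obtain ⟨t, ht⟩ := Infinite.exists_notMem_finset (Z.image fun p => -(T₀.symm p) 2 / (T₀.symm p) 1)
    refine ⟨t, fun p hp h => ?_⟩
    by_cases h1 : (T₀.symm p) 1 = 0
    · rw [h1, mul_zero, add_zero] at h
      have hpu : p = (T₀.symm p) 0 • u := by
        rw [← hT₀, ← map_smul, ← LinearEquiv.symm_apply_eq]
        funext r; fin_cases r <;> simp [h, h1]
      have hfp : eval p f = 0 := by
        have := congrArg (fun q => Polynomial.coeff q d) (mem_van.1 hf p hp)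
        simpa [coeff_lineEval, homogeneousComponent_of_mem ((mem_homogeneousSubmodule _ _).2 hhom)] using this
      have hp0 : (T₀.symm p) 0 ≠ 0 := fun h0 => hZ p hp (by rw [hpu, h0, zero_smul])
      have hsc : eval ((T₀.symm p) 0 • u) f = (T₀.symm p) 0 ^ d * eval u f := by
        have := congrArg (fun q => Polynomial.eval ((T₀.symm p) 0) q)
          (show lineEval u f = Polynomial.monomial d (eval u f) from Polynomial.ext fun j => by
            rw [coeff_lineEval, Polynomial.coeff_monomial,
              homogeneousComponent_of_mem ((mem_homogeneousSubmodule _ _).2 hhom)]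
            by_cases hj : d = j
            · subst hj; simp
            · rw [if_neg hj, if_neg (Ne.symm hj), map_zero])
        rw [Polynomial.eval_monomial, mul_comm] at this
        rw [← this]
        have e : (Polynomial.evalRingHom ((T₀.symm p) 0)).comp (lineEval u).toRingHom = eval ((T₀.symm p) 0 • u) := by
          apply MvPolynomial.ringHom_ext
          · intro r; simp [lineEval]
          · intro j; simp [lineEval]; ring
        exact (RingHom.congr_fun e f).symm
      rw [← hpu, hfp] at hsc
      exact mul_ne_zero (pow_ne_zero _ hp0) hu hsc.symm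
    · exact ht (Finset.mem_image.2 ⟨p, hp, by field_simp; linear_combination -h⟩)
  let Sh : (Fin 3 → K) ≃ₗ[K] (Fin 3 → K) :=
    { toFun := fun x => ![x 0, x 1, x 2 + t * x 1]
      invFun := fun x => ![x 0, x 1, x 2 - t * x 1]
      left_inv := fun x => by funext r; fin_cases r <;> simp
      right_inv := fun x => by funext r; fin_cases r <;> simp
      map_add' := fun x y => by funext r; fin_cases r <;> simp; ring
      map_smul' := fun s x => by funext r; fin_cases r <;> simp; ring }
  let Φ := T₀.symm.trans Sh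
  let ψ := subT (Φ.symm.toLinearMap)
  let ψ' := subT (Φ.toLinearMap)
  have hψψ : ∀ a, ψ' (ψ a) = a := subT_subT _ _ fun x => Φ.symm_apply_apply x
  have hvan : ∀ a, a ∈ van (Z : Set (Fin 3 → K)) → ψ a ∈ van (Φ '' Z) := fun a ha => by
    rw [mem_van]
    rintro _ ⟨p, hp, rfl⟩
    rw [← AlgHom.comp_apply, lineEval_subT]
    simpa using mem_van.1 ha p hp
  have hvan' : ∀ a, a ∈ van (Φ '' Z) → ψ' a ∈ van (Z : Set (Fin 3 → K)) := fun a ha => by
    rw [mem_van]
    intro p hp
    rw [← AlgHom.comp_apply, lineEval_subT]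
    exact mem_van.1 ha _ ⟨p, hp, rfl⟩
  refine card_le_of_indep (Φ '' Z) ?_ (hvan f hf) (subT_homogeneous _ hhom) ?_ (fun j => ψ (h j)) (fun j => hvan _ (hh j)) ?_
  · rintro _ ⟨p, hp, rfl⟩
    exact ht p hp
  · rw [eval_subT]
    change eval (T₀ (Sh.symm ![1, 0, 0])) f ≠ 0
    rw [show Sh.symm ![1, 0, 0] = ![1, 0, 0] by funext r; fin_cases r <;> simp [Sh], hT₀]
    exact hu
  · intro c hc
    refine hind c ?_
    have h1 := Ideal.mem_map_of_mem ψ'.toRingHom hc
    rw [Ideal.map_mul] at h1
    have h2 := Ideal.mul_mono (subT_mem_idealOfVars Φ.toLinearMap) (Ideal.map_le_iff_le_comap.2 fun a ha => Ideal.mem_comap.2 (hvan' a ha)) h1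
    simpa [map_sum, map_smul, hψψ] using h2

end coords

section descent

variable {K : Type u} [Field K] [Algebra k K]

/-- apply a linear functional coefficientwise -/
noncomputable def mapLin (φ : K →ₗ[k] k) : S₃ K →ₗ[k] S₃ k where
  toFun a := AddMonoidAlgebra.map φ.toAddMonoidHom a
  map_add' a b := by ext m; exact map_add φ (coeff m a) (coeff m b)
  map_smul' c a := by ext m; exact map_smul φ c (coeff m a)

lemma coeff_mapLin (φ : K →ₗ[k] k) (a : S₃ K) (m : Fin 3 →₀ ℕ) : (mapLin φ a).coeff m = φ (a.coeff m) := rfl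

lemma mapLin_mul_map (φ : K →ₗ[k] k) (a : S₃ K) (b : S₃ k) :
    mapLin φ (a * MvPolynomial.map (algebraMap k K) b) = mapLin φ a * b := by
  classical
  ext m
  rw [coeff_mapLin, coeff_mul, coeff_mul, map_sum]
  refine Finset.sum_congr rfl fun x _ => ?_
  rw [coeff_map, coeff_mapLin, mul_comm (coeff x.1 a), ← Algebra.smul_def, map_smul, smul_eq_mul, mul_comm]

lemma lineEval_mapLin (φ : K →ₗ[k] k) (p : Fin 3 → k) (a : S₃ K) (j : ℕ) :
    (lineEval p (mapLin φ a)).coeff j = φ ((lineEval (fun i => algebraMap k K (p i)) a).coeff j) := by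
  classical
  induction a using MvPolynomial.induction_on' with
  | monomial m c =>
    have e : mapLin φ (monomial m c) = monomial m (φ c) := by
      ext m'
      rw [coeff_mapLin, coeff_monomial, coeff_monomial]
      split_ifs <;> simp
    rw [e, coeff_lineEval, coeff_lineEval]
    rw [homogeneousComponent_of_mem ((mem_homogeneousSubmodule m.degree _).2 (isHomogeneous_monomial _ rfl)),
      homogeneousComponent_of_mem ((mem_homogeneousSubmodule m.degree _).2 (isHomogeneous_monomial c rfl))]
    split_ifs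
    · rw [eval_monomial, eval_monomial]
      simp only [← map_pow, ← map_finsuppProd, mul_comm c, ← Algebra.smul_def, map_smul]
      rw [smul_eq_mul, mul_comm]
    · simp
  | add a b ha hb => simp only [map_add, Polynomial.coeff_add, ha, hb]

set_option maxHeartbeats 1000000 in
/-- homogeneous elements independent modulo `m · I` are at most `d + 1` -/
theorem card_le (Z : Finset (Fin 3 → k)) (hZ : ∀ p ∈ Z, p ≠ 0) {d : ℕ} {f : S₃ k}
    (hf : f ∈ van (Z : Set (Fin 3 → k))) (hhom : f.IsHomogeneous d) (hf0 : f ≠ 0) {N : ℕ} (h : Fin N → S₃ k)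
    (hh : ∀ j, h j ∈ van (Z : Set (Fin 3 → k)))
    (hind : ∀ c : Fin N → k, ∑ j, c j • h j ∈ idealOfVars (Fin 3) k * van (Z : Set (Fin 3 → k)) → c = 0) :
    N ≤ d + 1 := by
  classical
  let K := AlgebraicClosure k
  let ι := MvPolynomial.map (σ := Fin 3) (algebraMap k K)
  let e : (Fin 3 → k) → (Fin 3 → K) := fun p i => algebraMap k K (p i)
  have hle : ∀ a, a ∈ van (Z : Set (Fin 3 → k)) → ι a ∈ van (↑(Z.image e) : Set (Fin 3 → K)) := fun a ha => by
    rw [mem_van, Finset.coe_image]
    rintro _ ⟨p, hp, rfl⟩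
    have hcomp : (lineEval (e p)).toRingHom.comp ι = (Polynomial.mapRingHom (algebraMap k K)).comp (lineEval p).toRingHom := by
      apply MvPolynomial.ringHom_ext
      · intro r; simp [lineEval, ι]
      · intro i; simp [lineEval, ι, e]
    have := RingHom.congr_fun hcomp a
    simp only [RingHom.comp_apply, AlgHom.toRingHom_eq_coe, RingHom.coe_coe, mem_van.1 ha p hp, map_zero] at this
    exact this
  refine card_le_infinite (Z.image e) ?_ (hle f hf) (hhom.map _) ?_ (fun j => ι (h j)) (fun j => hle _ (hh j)) ?_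
  · intro p hp
    obtain ⟨p, hp', rfl⟩ := Finset.mem_image.1 hp
    exact fun h0 => hZ p hp' (funext fun i => (algebraMap k K).injective ((congrFun h0 i).trans (map_zero _).symm))
  · exact fun h0 => hf0 (MvPolynomial.map_injective _ (algebraMap k K).injective (h0.trans (map_zero _).symm))
  intro c hc
  funext j
  rw [Pi.zero_apply, ← Module.forall_dual_apply_eq_zero_iff k]
  intro φ
  refine congrFun (hind (fun j => φ (c j)) ?_) j
  have hφ : ∀ a ∈ idealOfVars (Fin 3) K * van (↑(Z.image e) : Set (Fin 3 → K)),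
      mapLin φ a ∈ idealOfVars (Fin 3) k * van (Z : Set (Fin 3 → k)) := by
    intro a ha
    refine Submodule.mul_induction_on ha (fun u hu v hv => ?_) fun u v hu hv => by rw [map_add]; exact add_mem hu hv
    obtain ⟨s, rfl⟩ := Ideal.mem_span_range_iff_exists_fun.1 hu
    rw [Finset.sum_mul, map_sum]
    refine Ideal.sum_mem _ fun i _ => ?_
    rw [show s i * X i * v = s i * v * ι (X i) by rw [show ι (X i) = X i from map_X _ i]; ring, mapLin_mul_map]
    refine Ideal.mul_mem_mul_rev (show (X i : S₃ k) ∈ idealOfVars (Fin 3) k from Ideal.subset_span (Set.mem_range_self i)) (mem_van.2 fun p hp => Polynomial.ext fun j => ?_)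
    rw [lineEval_mapLin, mem_van.1 ((van _).mul_mem_left (s i) hv) (e p) (Finset.mem_image_of_mem e hp),
      Polynomial.coeff_zero, Polynomial.coeff_zero, map_zero]
  have h1 := hφ _ hc
  rw [map_sum] at h1
  convert h1 using 2 with j _
  rw [smul_eq_C_mul, smul_eq_C_mul, mapLin_mul_map]
  congr 1
  ext m
  simp only [coeff_mapLin, coeff_C]
  split_ifs <;> simp

end descent

set_option maxHeartbeats 1000000 in
theorem spanFinrank_le (Z : Finset (Fin 3 → k)) (hZ : ∀ p ∈ Z, p ≠ 0) {d : ℕ} {f : S₃ k}
    (hf : f ∈ van (Z : Set (Fin 3 → k))) (hhom : f.IsHomogeneous d) (hf0 : f ≠ 0) :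
    Submodule.spanFinrank (van (Z : Set (Fin 3 → k))) ≤ d + 1 := by
  classical
  set I := van (Z : Set (Fin 3 → k)) with hI
  have hcomp : ∀ a ∈ I, ∀ j, homogeneousComponent j a ∈ I := fun a ha j => by
    rw [mem_van] at ha ⊢
    intro p hp
    refine Polynomial.ext fun i => ?_
    rw [coeff_lineEval, homogeneousComponent_of_mem (homogeneousComponent_mem j a)]
    split_ifs with hij
    · subst hij
      rw [← coeff_lineEval, ha p hp]
    · simp
  let P : Submodule k (S₃ k) := (idealOfVars (Fin 3) k * I).restrictScalars k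
  let H : Set (S₃ k) := {a | a ∈ I ∧ ∃ e, a.IsHomogeneous e}
  obtain ⟨B, hBH, hBspan, hBli⟩ := exists_linearIndependent k (P.mkQ '' H)
  have hfin : ∀ T : Finset (S₃ k ⧸ P), ↑T ⊆ B → T.card ≤ d + 1 := by
    intro T hT
    have hl : ∀ t : T, ∃ a ∈ H, P.mkQ a = t := fun t => hBH (hT t.2)
    choose a haH ha using hl
    refine card_le Z hZ hf hhom hf0 (fun j => a (T.equivFin.symm j)) (fun j => (haH _).1) fun c hc => ?_
    have hli : LinearIndependent k (fun t : T => (t : S₃ k ⧸ P)) :=
      hBli.comp (Set.inclusion (s := (T : Set (S₃ k ⧸ P))) hT) (Set.inclusion_injective hT)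
    have h0 : P.mkQ (∑ j, c j • a (T.equivFin.symm j)) = 0 := by
      rw [Submodule.mkQ_apply, Submodule.Quotient.mk_eq_zero]
      exact hc
    simp only [map_sum, map_smul, ha] at h0
    exact funext (Fintype.linearIndependent_iff.1 (hli.comp _ T.equivFin.symm.injective) c h0)
  have hBfin : B.Finite := by
    by_contra hinf
    obtain ⟨T, hT, hcard⟩ := Set.Infinite.exists_subset_card_eq (Set.not_finite.1 (fun h => hinf h)) (d + 2)
    have := hfin T hT
    omega
  have hl : ∀ b : hBfin.toFinset, ∃ a ∈ H, P.mkQ a = b := fun b => hBH (hBfin.mem_toFinset.1 b.2)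
  choose g hgH hg using hl
  have key : ∀ e, ∀ a ∈ I, a.IsHomogeneous e → a ∈ Ideal.span (Set.range g) := by
    intro e
    induction e using Nat.strong_induction_on with
    | _ e ih =>
      intro a ha hae
      have hq : P.mkQ a ∈ Submodule.span k (Set.range fun b => P.mkQ (g b)) := by
        rw [show (fun b => P.mkQ (g b)) = fun b : hBfin.toFinset => (b : S₃ k ⧸ P) from funext hg]
        simp only [Subtype.range_coe_subtype, Finset.setOfPred_mem, Set.Finite.coe_toFinset, hBspan]
        exact Submodule.subset_span ⟨a, ⟨ha, e, hae⟩, rfl⟩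
      obtain ⟨c, hc⟩ := (Submodule.mem_span_range_iff_exists_fun k).1 hq
      have hm : a - ∑ b, c b • g b ∈ idealOfVars (Fin 3) k * I := by
        have : P.mkQ (a - ∑ b, c b • g b) = 0 := by
          simp only [map_sub, map_sum, map_smul, hc, sub_self]
        rwa [Submodule.mkQ_apply, Submodule.Quotient.mk_eq_zero] at this
      obtain ⟨w, hw⟩ : ∃ w : Fin 3 → S₃ k, (∀ i, w i ∈ I) ∧ a - ∑ b, c b • g b = ∑ i, X i * w i := by
        refine Submodule.mul_induction_on hm (fun u hu v hv => ?_) ?_
        · obtain ⟨s, rfl⟩ := Ideal.mem_span_range_iff_exists_fun.1 hu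
          exact ⟨fun i => s i * v, fun i => I.mul_mem_left _ hv, by
            rw [Finset.sum_mul]; exact Finset.sum_congr rfl fun i _ => by ring⟩
        · rintro u v ⟨w, hwI, rfl⟩ ⟨w', hwI', rfl⟩
          exact ⟨fun i => w i + w' i, fun i => add_mem (hwI i) (hwI' i), by
            rw [← Finset.sum_add_distrib]; exact Finset.sum_congr rfl fun i _ => by ring⟩
      have h1 := congrArg (homogeneousComponent e) hw.2
      rw [map_sub, homogeneousComponent_of_mem ((mem_homogeneousSubmodule e _).2 hae), if_pos rfl, sub_eq_iff_eq_add, map_sum, map_sum] at h1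
      rw [h1]
      refine add_mem (Ideal.sum_mem _ fun i _ => ?_) (Ideal.sum_mem _ fun b _ => ?_)
      · rcases Nat.eq_zero_or_pos e with rfl | he
        · rw [homogeneousComponent_zero, ← constantCoeff_eq, map_mul, constantCoeff_X, zero_mul, map_zero]
          exact zero_mem _
        obtain ⟨e', rfl⟩ : ∃ e', e = e' + 1 := ⟨e - 1, by omega⟩
        have hsplit : homogeneousComponent (e' + 1) (X i * w i) = X i * homogeneousComponent e' (w i) := by
          ext m
          rw [coeff_homogeneousComponent, coeff_X_mul', coeff_X_mul']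
          by_cases him : i ∈ m.support
          · rw [if_pos him, if_pos him, coeff_homogeneousComponent]
            have hdeg : m.degree = (m - Finsupp.single i 1).degree + 1 := by
              have h2 : m - Finsupp.single i 1 + Finsupp.single i 1 = m :=
                tsub_add_cancel_of_le (Finsupp.single_le_iff.2 (Nat.one_le_iff_ne_zero.2 (Finsupp.mem_support_iff.1 him)))
              conv_lhs => rw [← h2, map_add, Finsupp.degree_single]
            simp only [hdeg, Nat.add_right_cancel_iff]
          · simp [Finsupp.mem_support_iff] at him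
            simp [Finsupp.mem_support_iff, him]
        rw [hsplit]
        exact Ideal.mul_mem_left _ _ (ih e' (by omega) _ (hcomp _ (hw.1 i) _) (homogeneousComponent_isHomogeneous _ _))
      · rw [map_smul, smul_eq_C_mul]
        refine Ideal.mul_mem_left _ _ ?_
        obtain ⟨-, j, hj⟩ := hgH b
        rw [homogeneousComponent_of_mem ((mem_homogeneousSubmodule j _).2 hj)]
        split_ifs
        · exact Ideal.subset_span ⟨b, rfl⟩
        · exact zero_mem _
  have hspan : I = Submodule.span (S₃ k) (Set.range g) := by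
    refine le_antisymm (fun a ha => ?_) (Submodule.span_le.2 (Set.range_subset_iff.2 fun b => (hgH b).1))
    rw [← sum_homogeneousComponent a]
    exact Submodule.sum_mem _ fun e _ => key e _ (hcomp a ha e) (homogeneousComponent_isHomogeneous _ _)
  rw [hspan]
  refine (Submodule.spanFinrank_span_le_ncard_of_finite (Set.finite_range g)).trans ?_
  rw [← Nat.card_coe_set_eq]
  refine (Finite.card_range_le g).trans ?_
  rw [Nat.card_eq_fintype_card, Fintype.card_coe]
  exact hfin hBfin.toFinset (by simp)

end Groth.Agent.CAlgPts
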