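import Mathlib.RingTheory.MvPolynomial.Homogeneous
import Mathlib.Algebra.Order.Antidiag.FinsuppEquiv
import Mathlib.LinearAlgebra.Dual.Lemmas
import Mathlib.LinearAlgebra.FiniteDimensional.Lemmas
import Mathlib.Tactic

/-! Finite sets of points in the projective plane impose independent conditions on forms of high degree. -/

namespace Groth.Agent.CAlgPts
open MvPolynomial

variable {k : Type*} [Field k]

/-- a linear functional as a linear form -/
noncomputable def linForm (φ : (Fin 3 → k) →ₗ[k] k) : MvPolynomial (Fin 3) k :=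
  ∑ i, C (φ (Pi.single i 1)) * X i

lemma linForm_isHomogeneous (φ : (Fin 3 → k) →ₗ[k] k) : (linForm φ).IsHomogeneous 1 :=
  IsHomogeneous.sum _ _ _ fun i _ => (isHomogeneous_X k i).C_mul _

lemma aeval_linForm (φ : (Fin 3 → k) →ₗ[k] k) (v : Fin 3 → k) : aeval v (linForm φ) = φ v := by
  conv_rhs => rw [pi_eq_sum_univ' v]
  simp [linForm, map_sum, mul_comm]

lemma exists_sep {v : Fin 3 → k} {p : Submodule k (Fin 3 → k)} (h : v ∉ p) :
    ∃ φ : (Fin 3 → k) →ₗ[k] k, φ v ≠ 0 ∧ ∀ w ∈ p, φ w = 0 := by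
  obtain ⟨φ, h1, h2⟩ := p.exists_dual_map_eq_bot_of_notMem h inferInstance
  exact ⟨φ, h1, fun w hw => by
    have : φ w ∈ p.map φ := ⟨w, hw, rfl⟩
    rwa [h2, Submodule.mem_bot] at this⟩

/-- product of linear forms, one for each point of `S`, vanishing at it and not at `v` -/
lemma exists_form (v : Fin 3 → k) (S : Finset (Fin 3 → k)) (hS : ∀ w ∈ S, v ∉ Submodule.span k {w}) :
    ∃ F : MvPolynomial (Fin 3) k, F.IsHomogeneous S.card ∧ aeval v F ≠ 0 ∧ ∀ w ∈ S, aeval w F = 0 := by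
  classical
  have h : ∀ w : S, ∃ φ : (Fin 3 → k) →ₗ[k] k, φ v ≠ 0 ∧ φ w = 0 := fun w => by
    obtain ⟨φ, h1, h2⟩ := exists_sep (hS w w.2)
    exact ⟨φ, h1, h2 _ (Submodule.mem_span_singleton_self _)⟩
  choose φ h1 h2 using h
  refine ⟨∏ w : S, linForm (φ w), ?_, ?_, ?_⟩
  · have := IsHomogeneous.prod Finset.univ (fun w : S => linForm (φ w)) (fun _ => 1)
      (fun w _ => linForm_isHomogeneous (φ w))
    simpa using this
  · rw [map_prod, Finset.prod_ne_zero_iff]
    exact fun w _ => by rw [aeval_linForm]; exact h1 w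
  · intro w hw
    rw [map_prod]
    exact Finset.prod_eq_zero (Finset.mem_univ ⟨w, hw⟩) (by rw [aeval_linForm]; exact h2 ⟨w, hw⟩)

lemma finrank_forms (d : ℕ) :
    Module.finrank k (homogeneousSubmodule (Fin 3) k d) = (d + 2).choose 2 := by
  classical
  have e : homogeneousSubmodule (Fin 3) k d = restrictSupport k {s | s.degree = d} :=
    homogeneousSubmodule_eq_finsupp_supported _ _ d
  have hs : {s : Fin 3 →₀ ℕ | s.degree = d} = ↑((Finset.univ : Finset (Fin 3)).finsuppAntidiag d) := by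
    ext s; simp [Finsupp.degree_eq_sum]
  rw [e, hs, Module.finrank_eq_card_basis (basisRestrictSupport k _)]
  simp only [Finset.coe_sort_coe, Fintype.card_coe]
  rw [Finset.card_finsuppAntidiag_nat_eq_choose, Finset.card_univ, Fintype.card_fin,
    show 3 + d - 1 = d + 2 by omega]
  exact Nat.choose_symm_add

theorem finrank_vanishing (n : ℕ) (hn : 3 ≤ n) (Λ : Finset (Fin 3 → k)) (hcard : Λ.card = n)
    (hdist : ∀ v ∈ Λ, ∀ w ∈ Λ, v ≠ w → LinearIndependent k ![v, w]) :
    Module.finrank k ↥(homogeneousSubmodule (Fin 3) k (n - 1) ⊓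
      ⨅ v ∈ Λ, LinearMap.ker (aeval v).toLinearMap) = Nat.choose (n + 1) 2 - n := by
  classical
  set H := homogeneousSubmodule (Fin 3) k (n - 1)
  haveI : Module.Finite k H := Module.Finite.iff_fg.2 (homogeneousSubmodule_fg _ _ _)
  let ev : H →ₗ[k] (Λ → k) := LinearMap.pi fun v => (aeval (v : Fin 3 → k)).toLinearMap ∘ₗ H.subtype
  have hsurj : LinearMap.range ev = ⊤ := by
    rw [eq_top_iff, ← (Pi.basisFun k Λ).span_eq, Submodule.span_le]
    rintro _ ⟨v, rfl⟩
    obtain ⟨F, hF, hv, hw⟩ := exists_form (v : Fin 3 → k) (Λ.erase v) (fun w hw hmem => by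
      rw [Finset.mem_erase] at hw
      obtain ⟨c, hc⟩ := Submodule.mem_span_singleton.1 hmem
      have h1 := (LinearIndependent.pair_iff.1 (hdist w hw.2 v v.2 hw.1)) c (-1) (by rw [hc]; module)
      simp at h1)
    rw [Finset.card_erase_of_mem v.2, hcard] at hF
    refine ⟨(aeval (v : Fin 3 → k) F)⁻¹ • ⟨F, hF⟩, ?_⟩
    funext w
    simp only [map_smul, Pi.smul_apply, Pi.basisFun_apply, smul_eq_mul]
    change _ * aeval (w : Fin 3 → k) F = _
    rcases eq_or_ne w v with rfl | hne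
    · rw [inv_mul_cancel₀ hv, Pi.single_eq_same]
    · rw [hw w (Finset.mem_erase.2 ⟨fun h => hne (Subtype.ext h), w.2⟩)]
      simp [hne]
  have hker : (LinearMap.ker ev).map H.subtype = H ⊓ ⨅ v ∈ Λ, LinearMap.ker (aeval v).toLinearMap := by
    ext F
    simp only [Submodule.mem_inf, Submodule.mem_iInf]
    constructor
    · rintro ⟨G, hG, rfl⟩
      exact ⟨G.2, fun v hv => congrFun (hG : ev G = 0) ⟨v, hv⟩⟩
    · rintro ⟨hF, h⟩
      exact ⟨⟨F, hF⟩, funext fun v => h v v.2, rfl⟩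
  rw [← hker, Submodule.finrank_map_subtype_eq]
  have := LinearMap.finrank_range_add_finrank_ker ev
  rw [hsurj, finrank_top, Module.finrank_pi, Fintype.card_coe, hcard, finrank_forms,
    show n - 1 + 2 = n + 1 by omega] at this
  omega

theorem mem_of_vanishing (n : ℕ) (hn : 3 ≤ n) (Λ' : Finset (Fin 3 → k)) (hcard' : Λ'.card = n)
    (hdist' : ∀ v ∈ Λ', ∀ w ∈ Λ', v ≠ w → LinearIndependent k ![v, w])
    (hline' : ¬ ∃ ℓ : (Fin 3 → k) →ₗ[k] k, ℓ ≠ 0 ∧ ∀ v ∈ Λ', ℓ v = 0)
    (v : Fin 3 → k)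
    (hv : ∀ F : MvPolynomial (Fin 3) k, F.IsHomogeneous (n - 1) → (∀ w ∈ Λ', aeval w F = 0) → aeval v F = 0) :
    ∃ w ∈ Λ', ∃ c : k, v = c • w := by
  classical
  by_contra hno
  push Not at hno
  have hns : ∀ w ∈ Λ', v ∉ Submodule.span k {w} := fun w hw h => by
    obtain ⟨c, hc⟩ := Submodule.mem_span_singleton.1 h
    exact hno w hw c hc.symm
  obtain ⟨w1, hw1, w2, hw2, hne, hnot⟩ :
      ∃ w1 ∈ Λ', ∃ w2 ∈ Λ', w1 ≠ w2 ∧ v ∉ Submodule.span k {w1, w2} := by
    by_contra hc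
    push Not at hc
    obtain ⟨w1, hw1⟩ : Λ'.Nonempty := Finset.card_pos.1 (by omega)
    have hall : ∀ w ∈ Λ', w ∈ Submodule.span k {w1, v} := by
      intro w hw
      rcases eq_or_ne w1 w with rfl | h
      · exact Submodule.subset_span (by simp)
      obtain ⟨a, b, hab⟩ := Submodule.mem_span_pair.1 (hc w1 hw1 w hw h)
      have hb : b ≠ 0 := fun hb => hno w1 hw1 a (by rw [← hab, hb]; simp)
      refine Submodule.mem_span_pair.2 ⟨-(b⁻¹ * a), b⁻¹, ?_⟩
      rw [← hab, smul_add, smul_smul, smul_smul, inv_mul_cancel₀ hb]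
      module
    have hlt : Submodule.span k {w1, v} ≠ ⊤ := fun h => by
      have h1 : Module.finrank k (Submodule.span k ({w1, v} : Set (Fin 3 → k))) = 3 := by
        rw [h, finrank_top, Module.finrank_fin_fun]
      have h2 := finrank_span_finset_le_card (R := k) ({w1, v} : Finset (Fin 3 → k))
      have h3 : ({w1, v} : Finset (Fin 3 → k)).card ≤ 2 := Finset.card_le_two
      have h4 : (↑({w1, v} : Finset (Fin 3 → k)) : Set (Fin 3 → k)) = {w1, v} := by simp
      rw [Set.finrank, h4] at h2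
      omega
    obtain ⟨u, -, hu⟩ := SetLike.exists_of_lt (lt_top_iff_ne_top.2 hlt)
    obtain ⟨φ, h1, h2⟩ := exists_sep hu
    exact hline' ⟨φ, fun h => h1 (by rw [h]; rfl), fun w hw => h2 w (hall w hw)⟩
  obtain ⟨φ, h1, h2⟩ := exists_sep hnot
  obtain ⟨F, hF, hFv, hFw⟩ := exists_form v ((Λ'.erase w1).erase w2) (fun w hw =>
    hns w (Finset.mem_of_mem_erase (Finset.mem_of_mem_erase hw)))
  rw [Finset.card_erase_of_mem (Finset.mem_erase.2 ⟨hne.symm, hw2⟩), Finset.card_erase_of_mem hw1, hcard'] at hF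
  have hG := (linForm_isHomogeneous φ).mul hF
  rw [show 1 + (n - 1 - 1) = n - 1 by omega] at hG
  have := hv _ hG fun w hw => by
    rw [map_mul, aeval_linForm]
    by_cases e1 : w = w1
    · rw [e1, h2 w1 (Submodule.subset_span (by simp)), zero_mul]
    by_cases e2 : w = w2
    · rw [e2, h2 w2 (Submodule.subset_span (by simp)), zero_mul]
    rw [hFw w (Finset.mem_erase.2 ⟨e2, Finset.mem_erase.2 ⟨e1, hw⟩⟩), mul_zero]
  rw [map_mul, aeval_linForm] at this
  exact mul_ne_zero h1 hFv this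

end Groth.Agent.CAlgPts
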